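import Cfsg.Agent.Fischer.Fi22Order

/-!
# A subgroup `2¹⁰` of `Fi₂₂` and its normalizer (helper14)

`B i`, `i < 10` : commuting involutions of `Spor.Fi22` (`B 0 = a`), `X k`, `k < 3`, with `X k * B i = P (M k i) * X k`,
`P m` the product of the `B j` with `m.testBit j`.
-/

set_option autoImplicit false
set_option maxRecDepth 100000

namespace Cfsg.Agent.H14.EPX.FiB

open Cfsg Cfsg.Spor Cfsg.Spor.Fi22 Cfsg.Agent.Lib.PermNet
open Cfsg.Agent.Fischer.Fi22PtsRep Cfsg.Agent.Fischer.Fi22Order

/-- the words of the basis -/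
def bw : List (List Gen) := [[.a],
  [.c],
  [.e],
  [.i],
  [.g],
  [.h, .i, .d, .h, .e, .d, .c, .d, .e, .h, .d, .i, .h],
  [.h, .i, .b, .c, .d, .h, .e, .d, .c, .b, .a, .b, .c, .d, .e, .h, .d, .c, .b, .i, .h],
  [.h, .i, .f, .e, .d, .h, .g, .f, .e, .d, .c, .d, .e, .f, .g, .h, .d, .e, .f, .i, .h],
  [.h, .i, .f, .e, .b, .c, .d, .h, .g, .f, .e, .d, .c, .b, .a, .b, .c, .d, .e, .f, .g, .h, .d, .c, .b, .e, .f, .i, .h],
  [.d, .e, .c, .d, .h, .i, .f, .e, .b, .c, .d, .h, .g, .f, .e, .d, .c, .b, .a, .b, .c, .d, .e, .f, .g, .h, .d, .c, .b, .e, .f, .i, .h, .d, .c, .e, .d]]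

/-- the word of the basis element `i` -/
def bi (i : ℕ) : List Gen := bw.getD i []

/-- the word of a product -/
def pw (m : ℕ) : List Gen := (List.range 10).flatMap fun i => if m.testBit i then bi i else []

/-- the words of the elements of the normalizer -/
def xw : List (List Gen) := [[.b, .a, .c, .b], [.f, .e, .g, .f], [.d, .c, .h, .d, .e, .i, .h, .d]]

/-- the word of the element `k` -/
def xi (k : ℕ) : List Gen := xw.getD k []

/-- the matrices -/
def M (k i : ℕ) : ℕ := ([[2, 1, 4, 8, 16, 64, 32, 256, 128, 628], [1, 2, 16, 8, 4, 128, 256, 32, 64, 675], [1, 32, 8, 2, 16, 4, 111, 190, 628, 411]].getD k []).getD i 0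

theorem sq_chk : ((List.range 10).all fun i => checkEq 12 (nw (bi i ++ bi i)) (nw [])) = true := by
  decide +kernel

theorem cm_chk : ((List.range 10).all fun i => (List.range i).all fun j =>
    checkEq 12 (nw (bi i ++ bi j)) (nw (bi j ++ bi i))) = true := by
  decide +kernel

theorem x_chk : ((List.range 3).all fun k => (List.range 10).all fun i =>
    checkEq 12 (nw (xi k ++ bi i)) (nw (pw (M k i) ++ xi k))) = true := by
  decide +kernel

/-! ### the elements -/

/-- the basis -/
def B (i : ℕ) : Spor.Fi22 := wd (bi i)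

/-- the elements of the normalizer -/
def X (k : ℕ) : Spor.Fi22 := wd (xi k)

/-- the product of the `B i` with `m.testBit i` -/
def P (m : ℕ) : Spor.Fi22 := wd (pw m)

theorem eq_of_chk {v w : List Gen} (h : checkEq 12 (nw v) (nw w) = true) : wd v = wd w := by
  apply φ_injective
  rw [φ_wd, φ_wd]
  exact wperm_eq_of_checkEq (nw_ok _) (nw_ok _) h

theorem wd_flatMap (l : List ℕ) (f : ℕ → List Gen) : wd (l.flatMap f) = (l.map fun i => wd (f i)).prod := by
  induction l with
  | nil => rfl
  | cons a l ih => rw [List.flatMap_cons, wd_append, ih, List.map_cons, List.prod_cons]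

theorem P_eq (m : ℕ) : P m = ((List.range 10).map fun i => if m.testBit i then B i else 1).prod := by
  unfold P pw
  rw [wd_flatMap]
  congr 1
  refine List.map_congr_left fun i _ => ?_
  cases m.testBit i <;> rfl

theorem B_sq {i : ℕ} (hi : i < 10) : B i * B i = 1 := by
  have h := List.all_eq_true.mp sq_chk i (List.mem_range.2 hi)
  have h2 := eq_of_chk h
  rwa [wd_append, wd_nil] at h2

theorem B_lt {i j : ℕ} (hi : i < 10) (hj : j < i) : B i * B j = B j * B i := by
  have h := List.all_eq_true.mp (List.all_eq_true.mp cm_chk i (List.mem_range.2 hi)) j (List.mem_range.2 hj)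
  have h2 := eq_of_chk h
  rwa [wd_append, wd_append] at h2

theorem B_comm {i j : ℕ} (hi : i < 10) (hj : j < 10) : B i * B j = B j * B i := by
  rcases lt_trichotomy i j with h | rfl | h
  · exact (B_lt hj h).symm
  · rfl
  · exact B_lt hi h

theorem X_B {k i : ℕ} (hk : k < 3) (hi : i < 10) : X k * B i = P (M k i) * X k := by
  have h := List.all_eq_true.mp (List.all_eq_true.mp x_chk k (List.mem_range.2 hk)) i (List.mem_range.2 hi)
  have h2 := eq_of_chk h
  rwa [wd_append, wd_append] at h2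

theorem B_zero : B 0 = gen .a := by
  show wd [.a] = _
  rw [wd_cons, wd_nil, mul_one]

/-! ### the action on the characters -/

/-- parity of the common bits -/
def pr (a b : ℕ) : Bool := (List.range 10).foldr (fun j r => xor (a.testBit j && b.testBit j) r) false

/-- the columns -/
def Ct (k j : ℕ) : ℕ := ([[2, 1, 516, 8, 528, 576, 544, 256, 128, 512], [513, 514, 16, 8, 4, 640, 256, 544, 64, 512], [577, 712, 480, 708, 912, 450, 320, 640, 512, 256]].getD k []).getD j 0

/-- the image of a character -/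
def D (k c : ℕ) : ℕ := (List.range 10).foldr (fun j r => Nat.xor (bif c.testBit j then Ct k j else 0) r) 0

theorem Ct_chk : ((List.range 3).all fun k => (List.range 10).all fun i => (List.range 10).all fun j =>
    (Ct k j).testBit i == (M k i).testBit j) = true := by
  decide +kernel

theorem D_testBit {k i : ℕ} (hk : k < 3) (hi : i < 10) (c : ℕ) : (D k c).testBit i = pr (M k i) c := by
  have key : ∀ l : List ℕ, (∀ j ∈ l, (Ct k j).testBit i = (M k i).testBit j) →
      (l.foldr (fun j r => Nat.xor (bif c.testBit j then Ct k j else 0) r) 0).testBit i =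
        l.foldr (fun j r => xor ((M k i).testBit j && c.testBit j) r) false := by
    intro l
    induction l with
    | nil =>
      intro _
      exact Nat.zero_testBit i
    | cons a l ih =>
      intro h
      rw [List.foldr_cons, List.foldr_cons, ← ih fun j hj => h j (List.mem_cons_of_mem _ hj),
        ← h a List.mem_cons_self]
      show ((bif c.testBit a then Ct k a else 0) ^^^ _).testBit i = _
      rw [Nat.testBit_xor]
      cases c.testBit a
      · rw [cond_false, Nat.zero_testBit, Bool.and_false]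
      · rw [cond_true, Bool.and_true]
  refine key _ fun j hj => ?_
  exact eq_of_beq (List.all_eq_true.mp (List.all_eq_true.mp (List.all_eq_true.mp Ct_chk k (List.mem_range.2 hk)) i
    (List.mem_range.2 hi)) j hj)

/-- the tree -/
noncomputable def tr (c : ℕ) : ℕ := Nat.land (Nat.shiftRight 0x4fe7e7f79e7ecb67ebecff4bcfd95c7cde67cb94ebdfa93dec59e26fabc679df279bcce97e1915043edbd46e5a8cd72eebb88e578dd574ecfb0447b05ed2ae2d7828fe26aa022a77252570985a1e0560dfc3e779def6ef6f6b166f4f63d71cdd7d1a55d4beeaef3af8c9c663a586cb46cb36f070ce2017441fe7e9f47c1cd9966ad21e738e5ad864e66d44100af6a9e68ab8e6a9a46861da89c44808781704602ffde57ddc9dfcef35cc9f7d6e75d42d7f4f15c48bfdaf3c8e39fa641e463b7acf45d089564f14842fe3a26fdaaecf253512ee556965185c630247d0d6caa567582ae6230ca8d4e6854750f84a1804a0bfdbe3785e0df7675e9635ed6b569cb4db4c54c41beda63cd8a9de6328c8ab5ecd340c194c1614c0cec7a1769c26eb204f52a5c5606694cc446b45906ac5a23b0a92c22a2a8821c85a265090e8110640dff7d6f7bc7ddae6b756edebc6d7b4e9d715c970eedba6e7b8eac26da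9c6ecc2ca37b0d8f6168704bedbac6d3c0cf39cb6920e7784da98bc726cc924cbf2ace538a8d29d0c02c9f32c9b2418720c852057cbe2f7deedcaed6b58ef5555591cd4f51257d4aecaed3ab852e662a786accb2d1ab0f94a2285442effac7a1a9cd328b5189e7158d4d844e265461043e3a4388a0afa2c2a423a6324183008e22f0420afe7dd7d9c63f8e1e87865f96e5594ad7861c9840bf9ae6598b9da6c1c4664c65c35900966171580c7c3aa6f1c6cd0e8eb0c6e6f8167148cd06a45d0c6eaa4674ac8c2942708c4d1289988784210042017c5da745c8dd76a348c8f696158943d7b4a165026e9a938ce22e8aa244824feca464420c41e14c44ee7a36f9afcc0e84d52fe4b88595881e7001604eacea0380c58e2282bc201e28227c8e8402005000ff7e77e9ebddb6c5decbf5bc7d85c0d774f96947effad3c0e19f267aac61b72cfc6cca95e1d1404dfebaefb5accc72b4f6cedd765d7b46cdb1045b0dac2aa2dac68d6a5a768dcd725c5a4d8562587a09ffdde7fdc2ddd9768ec2f6f6f58f49d6e6e54d43edcd73a4e89d66f2bc88b6f2bc48cf0fc1414e0eecfa96d1ae6e3224f985e63865bd8ec4f019790e3c7ae3b8cf8ca262a68fa472e1b8498c62307803fdde17f1edddce735d6f5c3ca74f46d6f415714f6dda7658ef2ea601fc87b6e5b9bd0f0c64b14e01ef5ed76bca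cf4ed4d4cae5f8d64181c7466454456f5ac2c4a08f4aaaa820a768d44a4a8da0d0440b7cdeb795eb3e76368d8b5e7cb5ad4b1cc6315545bcda366d8e9cca91ec8b4cc5318c4594c2307c417d7af6c5c3ce4e44e5215fb8466588c691916902afea9660a98e4a228489a528944c828642904408ffbeef57c3dfaeeb5ac6dd755da5c8d574f55a4dbfbaee76c6ad695a9a89b52cec5b02956158a04cfcbacf95acbe724eb924e53636734c9cb0497244bd3a4e738cace24a502ea4e892508c8f21207c01ff5dd7b5c56d59ab4acaf755ad75454f34a94a42ed4dc3d4c09eaa71e8651f6c7368cd0f41c14448fd1d47a3cdcc32a4dd28dc38a6514c4c2609710cac6ab2d8a42ea20a6287a70502748c8422086201fcfe6751ee3e36637d65f596657949ccf461784e6d9a66798e2d8a62546e4cac837904966418b849ef1ee6cda2cff2c350c2e7f8c55149c706c143046faa42d1842f0af0c828a5680982440e2140620a7e5d97a9c16c8e16a8ca5c9695a9414c8621754a6c9a2669892c8a11e8811eec11b0c90e41a15c40ef7a76e9abcdb28340cbe616c645801e068480483c0ed2c0a18e0a826c21a612626c8a840100400 (10 * c)) 1023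

/-- the root -/
noncomputable def rt (c : ℕ) : ℕ := tr (tr (tr (tr (tr (tr (tr (tr (tr (tr (tr (tr c)))))))))))

theorem D_chk : ((List.range 3).all fun k => (List.range 1024).all fun c => Nat.blt (D k c) 1024 &&
    Nat.beq (D k (D k (D k (D k c)))) c) = true := by
  decide +kernel

theorem tr_chk : ((List.range 1024).all fun c => Nat.beq (tr c) c ||
    ((List.range 3).any fun k => Nat.beq (D k (tr c)) c)) = true := by
  decide +kernel

theorem tr_lt_chk : ((List.range 1024).all fun c => Nat.blt (tr c) 1024) = true := by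
  decide +kernel

theorem rt_chk : ((List.range 1024).all fun c => Nat.beq (rt c) 0 || Nat.beq (rt c) 127 || Nat.beq (rt c) 1 ||
    Nat.beq (rt c) 14) = true := by
  decide +kernel

/-- number of the `c < n` with root `r` and, if `o`, odd -/
noncomputable def cnt (o : Bool) (r n : ℕ) : ℕ :=
  Nat.rec 0 (fun c a => bif (Nat.beq (rt c) r && (!o || c.testBit 0)) then Nat.succ a else a) n

theorem cnt_chk : (Nat.beq (cnt false 0 1024) 1 && Nat.beq (cnt false 127 1024) 77 && Nat.beq (cnt false 1 1024) 330 &&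
    Nat.beq (cnt false 14 1024) 616 && Nat.beq (cnt true 0 1024) 0 && Nat.beq (cnt true 127 1024) 56 &&
    Nat.beq (cnt true 1 1024) 120 && Nat.beq (cnt true 14 1024) 336) = true := by
  decide +kernel

end Cfsg.Agent.H14.EPX.FiB
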