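import Mathlib

/-!
# Common eigenspaces of commuting involutions (helper14)

`W T U c k` : the vectors `v` of `U` with `T i v = ± v` for `i < k`, the sign being `-1` iff `c.testBit i`.
`sum_W` : the dimensions add up to `dim U`.
-/

set_option autoImplicit false

namespace Cfsg.Agent.H14.EPX.Wt

open Module

variable {K V : Type*} [Field K] [AddCommGroup V] [Module K V]

/-- the sign -/
def s (K : Type*) [Field K] (c i : ℕ) : K := if c.testBit i then -1 else 1

theorem s_sq (c i : ℕ) : s K c i * s K c i = 1 := by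
  unfold s
  split <;> ring

/-- common eigenspaces -/
def W (T : ℕ → End K V) (U : Submodule K V) (c : ℕ) : ℕ → Submodule K V
  | 0 => U
  | k + 1 => W T U c k ⊓ LinearMap.ker (T k - s K c k • 1)

theorem mem_W {T : ℕ → End K V} {U : Submodule K V} {c k : ℕ} {v : V} :
    v ∈ W T U c k ↔ v ∈ U ∧ ∀ i < k, T i v = s K c i • v := by
  induction k with
  | zero => simp [W]
  | succ k ih =>
    show v ∈ W T U c k ⊓ LinearMap.ker (T k - s K c k • 1) ↔ _
    rw [Submodule.mem_inf, ih, LinearMap.mem_ker, LinearMap.sub_apply, LinearMap.smul_apply, Module.End.one_apply,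
      sub_eq_zero, and_assoc]
    refine and_congr_right fun _ => ⟨fun h i hi => ?_, fun h => ⟨fun i hi => h i (by omega), h k (by omega)⟩⟩
    rcases Nat.lt_succ_iff_lt_or_eq.1 hi with hi | rfl
    · exact h.1 i hi
    · exact h.2

theorem W_congr {T : ℕ → End K V} {U : Submodule K V} {c c' k : ℕ} (h : ∀ i < k, c.testBit i = c'.testBit i) :
    W T U c k = W T U c' k := by
  ext v
  rw [mem_W, mem_W]
  refine and_congr_right fun _ => forall_congr' fun i => forall_congr' fun hi => ?_
  unfold s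
  rw [h i hi]

variable [FiniteDimensional K V]

/-- an involution splits an invariant subspace -/
theorem split (h2 : (2 : K) ≠ 0) {T : End K V} (hT : T * T = 1) {U : Submodule K V} (hU : ∀ v ∈ U, T v ∈ U) :
    finrank K U = finrank K ↥(U ⊓ LinearMap.ker (T - (1 : K) • 1)) + finrank K ↥(U ⊓ LinearMap.ker (T - (-1 : K) • 1)) := by
  have hTT : ∀ v, T (T v) = v := fun v => by
    have := congrArg (fun f : End K V => f v) hT
    exact this
  have m1 : ∀ v, v ∈ U ⊓ LinearMap.ker (T - (1 : K) • 1) ↔ v ∈ U ∧ T v = v := by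
    intro v
    rw [Submodule.mem_inf, LinearMap.mem_ker, LinearMap.sub_apply, LinearMap.smul_apply, Module.End.one_apply,
      sub_eq_zero, one_smul]
  have m2 : ∀ v, v ∈ U ⊓ LinearMap.ker (T - (-1 : K) • 1) ↔ v ∈ U ∧ T v = -v := by
    intro v
    rw [Submodule.mem_inf, LinearMap.mem_ker, LinearMap.sub_apply, LinearMap.smul_apply, Module.End.one_apply,
      sub_eq_zero, neg_smul, one_smul]
  have e1 : (U ⊓ LinearMap.ker (T - (1 : K) • 1)) ⊔ (U ⊓ LinearMap.ker (T - (-1 : K) • 1)) = U := by
    refine le_antisymm (sup_le inf_le_left inf_le_left) fun v hv => ?_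
    have e : v = (2 : K)⁻¹ • (v + T v) + (2 : K)⁻¹ • (v - T v) := by
      rw [← smul_add, add_add_sub_cancel, ← two_smul K v, smul_smul, inv_mul_cancel₀ h2, one_smul]
    rw [e]
    refine Submodule.add_mem_sup ((m1 _).2 ⟨U.smul_mem _ (U.add_mem hv (hU v hv)), ?_⟩)
      ((m2 _).2 ⟨U.smul_mem _ (U.sub_mem hv (hU v hv)), ?_⟩)
    · rw [map_smul, map_add, hTT, add_comm]
    · rw [map_smul, map_sub, hTT, ← smul_neg, neg_sub]
  have e2 : (U ⊓ LinearMap.ker (T - (1 : K) • 1)) ⊓ (U ⊓ LinearMap.ker (T - (-1 : K) • 1)) = ⊥ := by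
    rw [eq_bot_iff]
    intro v hv
    rw [Submodule.mem_inf, m1, m2] at hv
    have h3 : v = -v := hv.1.2.symm.trans hv.2.2
    have h4 : (2 : K) • v = 0 := by
      rw [two_smul]
      nth_rw 1 [h3]
      exact neg_add_cancel v
    exact (smul_eq_zero.1 h4).resolve_left h2
  have e3 := Submodule.finrank_sup_add_finrank_inf_eq (U ⊓ LinearMap.ker (T - (1 : K) • 1))
    (U ⊓ LinearMap.ker (T - (-1 : K) • 1))
  rw [e1, e2, finrank_bot, add_zero] at e3
  exact e3

/-- **the dimensions of the common eigenspaces** -/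
theorem sum_W (h2 : (2 : K) ≠ 0) {T : ℕ → End K V} {N : ℕ} (hT : ∀ i < N, T i * T i = 1)
    (hc : ∀ i < N, ∀ j < N, T i * T j = T j * T i) {U : Submodule K V} (hU : ∀ i < N, ∀ v ∈ U, T i v ∈ U) :
    ∀ k ≤ N, ∑ c ∈ Finset.range (2 ^ k), finrank K ↥(W T U c k) = finrank K U := by
  intro k
  induction k with
  | zero =>
    intro _
    rw [pow_zero, Finset.sum_range_one]
    rfl
  | succ k ih =>
    intro hk
    rw [← ih (by omega), pow_succ, mul_two, Finset.sum_range_add, ← Finset.sum_add_distrib]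
    refine Finset.sum_congr rfl fun c hcr => ?_
    rw [Finset.mem_range] at hcr
    have hinv : ∀ v ∈ W T U c k, T k v ∈ W T U c k := by
      intro v hv
      rw [mem_W] at hv ⊢
      refine ⟨hU k (by omega) v hv.1, fun i hi => ?_⟩
      have e1 : T i (T k v) = T k (T i v) := congrArg (fun f : End K V => f v) (hc i (by omega) k (by omega))
      rw [e1, hv.2 i hi, map_smul]
    rw [split h2 (hT k (by omega)) hinv]
    have s1 : s K c k = 1 := by
      unfold s
      rw [Nat.testBit_lt_two_pow hcr]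
      rfl
    have s2 : s K (2 ^ k + c) k = -1 := by
      unfold s
      rw [Nat.testBit_two_pow_add_eq, Nat.testBit_lt_two_pow hcr]
      rfl
    have e1 : W T U c (k + 1) = W T U c k ⊓ LinearMap.ker (T k - (1 : K) • 1) := by
      show W T U c k ⊓ LinearMap.ker (T k - s K c k • 1) = _
      rw [s1]
    have e2 : W T U (2 ^ k + c) (k + 1) = W T U c k ⊓ LinearMap.ker (T k - (-1 : K) • 1) := by
      show W T U (2 ^ k + c) k ⊓ LinearMap.ker (T k - s K (2 ^ k + c) k • 1) = _
      rw [s2, W_congr (c := 2 ^ k + c) (c' := c) fun i hi => Nat.testBit_two_pow_add_gt hi c]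
    rw [e1, e2]

/-- injective maps between common eigenspaces -/
theorem finrank_le {T : ℕ → End K V} {U : Submodule K V} {c c' k : ℕ} {f : End K V} (hf : Function.Injective f)
    (h : ∀ v ∈ W T U c k, f v ∈ W T U c' k) : finrank K ↥(W T U c k) ≤ finrank K ↥(W T U c' k) :=
  LinearMap.finrank_le_finrank_of_injective (f := (f.restrict h : ↥(W T U c k) →ₗ[K] ↥(W T U c' k)))
    fun x y hxy => Subtype.ext (hf (congrArg Subtype.val hxy))

end Cfsg.Agent.H14.EPX.Wt
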