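import Cfsg.Agent.H14.EPX.FiB
import Cfsg.Agent.H14.EPX.Wt

/-!
# Representations of `Fi₂₂` in odd characteristic restricted to `2¹⁰:M₂₂` (helper14)

* `dims` : `dim V = n₀ + 77 n₁ + 330 n₂ + 616 n₃` and the `(-1)`-eigenspace of a transposition has dimension
  `56 n₁ + 120 n₂ + 336 n₃`;
* `dim_eq` : this dimension is `56` if `dim V < 154` and the transposition acts nontrivially.
-/

set_option autoImplicit false

namespace Cfsg.Agent.H14.EPX.FiRep

open Module Cfsg.Agent.H14.EPX.FiB Cfsg.Agent.H14.EPX.Wt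

variable {K V : Type*} [Field K] [AddCommGroup V] [Module K V] [FiniteDimensional K V]

omit [FiniteDimensional K V] in
theorem prod_apply {G : Type*} [Group G] (ρ : G →* End K V) {b : ℕ → G} {v : V} {c m : ℕ} (l : List ℕ)
    (h : ∀ i ∈ l, ρ (b i) v = s K c i • v) :
    ρ ((l.map fun i => if m.testBit i then b i else 1).prod) v =
      (if l.foldr (fun j r => xor (m.testBit j && c.testBit j) r) false then (-1 : K) else 1) • v := by
  induction l with
  | nil => simp
  | cons a l ih =>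
    have h1 := ih fun i hi => h i (List.mem_cons_of_mem _ hi)
    have h2 := h a List.mem_cons_self
    rw [List.map_cons, List.prod_cons, map_mul, Module.End.mul_apply, h1, map_smul, List.foldr_cons]
    generalize l.foldr (fun j r => xor (m.testBit j && c.testBit j) r) false = r
    unfold s at h2
    cases hm : m.testBit a
    · have e : (if false = true then b a else 1) = (1 : G) := if_neg Bool.false_ne_true
      rw [e, map_one, Module.End.one_apply, Bool.false_and, Bool.false_xor]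
    · rw [if_pos rfl, h2, Bool.true_and]
      cases c.testBit a <;> cases r <;> simp

/-- the dimension of a common eigenspace -/
noncomputable def n (ρ : Spor.Fi22 →* End K V) (c : ℕ) : ℕ := finrank K ↥(W (fun i => ρ (B i)) ⊤ c 10)

theorem n_le (ρ : Spor.Fi22 →* End K V) {k : ℕ} (hk : k < 3) (c : ℕ) : n ρ c ≤ n ρ (D k c) := by
  refine Wt.finrank_le (f := ρ (X k)⁻¹) ?_ fun v hv => ?_
  · intro x y hxy
    have h := congrArg (ρ (X k)) hxy
    rwa [← Module.End.mul_apply, ← Module.End.mul_apply, ← map_mul, mul_inv_cancel, map_one] at h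
  · rw [mem_W] at hv ⊢
    refine ⟨trivial, fun i hi => ?_⟩
    have e1 : B i * (X k)⁻¹ = (X k)⁻¹ * P (M k i) := by
      rw [eq_inv_mul_iff_mul_eq, ← mul_assoc, X_B hk hi, mul_inv_cancel_right]
    have e2 : ρ (B i) (ρ (X k)⁻¹ v) = ρ (X k)⁻¹ (ρ (P (M k i)) v) := by
      rw [← Module.End.mul_apply, ← Module.End.mul_apply, ← map_mul, ← map_mul, e1]
    show ρ (B i) (ρ (X k)⁻¹ v) = _
    rw [e2, P_eq, prod_apply ρ (c := c) _ fun i hi => hv.2 i (List.mem_range.1 hi), map_smul]
    unfold s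
    rw [D_testBit hk hi]
    rfl

theorem D_spec {k c : ℕ} (hk : k < 3) (hc : c < 1024) : D k c < 1024 ∧ D k (D k (D k (D k c))) = c := by
  have h := List.all_eq_true.mp (List.all_eq_true.mp D_chk k (List.mem_range.2 hk)) c (List.mem_range.2 hc)
  rw [Bool.and_eq_true] at h
  exact ⟨by simpa using h.1, Nat.eq_of_beq_eq_true h.2⟩

theorem n_D (ρ : Spor.Fi22 →* End K V) {k c : ℕ} (hk : k < 3) (hc : c < 1024) : n ρ (D k c) = n ρ c := by
  obtain ⟨-, h4⟩ := D_spec hk hc
  have h1 := n_le ρ hk c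
  have h2 := n_le ρ hk (D k c)
  have h3 := n_le ρ hk (D k (D k c))
  have h5 := n_le ρ hk (D k (D k (D k c)))
  rw [h4] at h5
  omega

theorem tr_lt {c : ℕ} (hc : c < 1024) : tr c < 1024 := by
  have h := List.all_eq_true.mp tr_lt_chk c (List.mem_range.2 hc)
  simpa using h

theorem n_tr (ρ : Spor.Fi22 →* End K V) {c : ℕ} (hc : c < 1024) : n ρ (tr c) = n ρ c := by
  have h := List.all_eq_true.mp tr_chk c (List.mem_range.2 hc)
  rw [Bool.or_eq_true] at h
  rcases h with h | h
  · rw [Nat.eq_of_beq_eq_true h]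
  · obtain ⟨k, hk, hk2⟩ := List.any_eq_true.mp h
    have h3 := Nat.eq_of_beq_eq_true hk2
    have h4 := n_D ρ (List.mem_range.1 hk) (tr_lt hc)
    rw [h3] at h4
    exact h4.symm

theorem n_rt (ρ : Spor.Fi22 →* End K V) {c : ℕ} (hc : c < 1024) : n ρ (rt c) = n ρ c := by
  have key : ∀ j : ℕ, tr^[j] c < 1024 ∧ n ρ (tr^[j] c) = n ρ c := by
    intro j
    induction j with
    | zero => exact ⟨hc, rfl⟩
    | succ j ih =>
      rw [Function.iterate_succ_apply']
      exact ⟨tr_lt ih.1, (n_tr ρ ih.1).trans ih.2⟩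
  exact (key 12).2

theorem rt_mem {c : ℕ} (hc : c < 1024) : rt c = 0 ∨ rt c = 127 ∨ rt c = 1 ∨ rt c = 14 := by
  have h := List.all_eq_true.mp rt_chk c (List.mem_range.2 hc)
  simp only [Bool.or_eq_true] at h
  rcases h with ((h | h) | h) | h
  · exact Or.inl (Nat.eq_of_beq_eq_true h)
  · exact Or.inr (Or.inl (Nat.eq_of_beq_eq_true h))
  · exact Or.inr (Or.inr (Or.inl (Nat.eq_of_beq_eq_true h)))
  · exact Or.inr (Or.inr (Or.inr (Nat.eq_of_beq_eq_true h)))

theorem cnt_succ (o : Bool) (r m : ℕ) : cnt o r (m + 1) =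
    bif (Nat.beq (rt m) r && (!o || m.testBit 0)) then cnt o r m + 1 else cnt o r m := rfl

theorem sum_cnt (f : ℕ → ℕ) (o : Bool) : ∀ m ≤ 1024,
    ∑ c ∈ Finset.range m, (if (!o || c.testBit 0) = true then f (rt c) else 0) =
      cnt o 0 m * f 0 + cnt o 127 m * f 127 + cnt o 1 m * f 1 + cnt o 14 m * f 14 := by
  intro m
  induction m with
  | zero =>
    intro _
    show (0 : ℕ) = 0 * f 0 + 0 * f 127 + 0 * f 1 + 0 * f 14
    ring
  | succ m ih =>
    intro hm
    rw [Finset.sum_range_succ, ih (by omega), cnt_succ, cnt_succ, cnt_succ, cnt_succ]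
    generalize (!o || m.testBit 0) = b
    cases b
    · simp
    · have e : ∀ r, Nat.beq (rt m) r = decide (rt m = r) := fun r => by
        by_cases h : rt m = r
        · rw [h]; simp
        · rw [decide_eq_false h]
          exact Bool.eq_false_iff.2 fun h' => h (Nat.eq_of_beq_eq_true h')
      simp only [e, if_true, Bool.and_true]
      rcases rt_mem (c := m) (by omega) with h | h | h | h <;> rw [h] <;> simp <;> ring

attribute [local irreducible] cnt

theorem cnt_vals : cnt false 0 1024 = 1 ∧ cnt false 127 1024 = 77 ∧ cnt false 1 1024 = 330 ∧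
    cnt false 14 1024 = 616 ∧ cnt true 0 1024 = 0 ∧ cnt true 127 1024 = 56 ∧ cnt true 1 1024 = 120 ∧
    cnt true 14 1024 = 336 := by
  have h := cnt_chk
  simp only [Bool.and_eq_true] at h
  obtain ⟨⟨⟨⟨⟨⟨⟨h1, h2⟩, h3⟩, h4⟩, h5⟩, h6⟩, h7⟩, h8⟩ := h
  exact ⟨Nat.eq_of_beq_eq_true h1, Nat.eq_of_beq_eq_true h2, Nat.eq_of_beq_eq_true h3, Nat.eq_of_beq_eq_true h4,
    Nat.eq_of_beq_eq_true h5, Nat.eq_of_beq_eq_true h6, Nat.eq_of_beq_eq_true h7, Nat.eq_of_beq_eq_true h8⟩

/-- **the dimensions** -/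
theorem dims (h2 : (2 : K) ≠ 0) (ρ : Spor.Fi22 →* End K V) :
    finrank K V = n ρ 0 + 77 * n ρ 127 + 330 * n ρ 1 + 616 * n ρ 14 ∧
    finrank K ↥(LinearMap.ker (ρ (B 0) + 1)) = 56 * n ρ 127 + 120 * n ρ 1 + 336 * n ρ 14 := by
  have hT : ∀ i < 10, ρ (B i) * ρ (B i) = 1 := fun i hi => by rw [← map_mul, B_sq hi, map_one]
  have hc : ∀ i < 10, ∀ j < 10, ρ (B i) * ρ (B j) = ρ (B j) * ρ (B i) := fun i hi j hj => by
    rw [← map_mul, B_comm hi hj, map_mul]
  obtain ⟨c1, c2, c3, c4, c5, c6, c7, c8⟩ := cnt_vals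
  have e10 : 2 ^ 10 = 1024 := by norm_num
  constructor
  · have h := Wt.sum_W h2 (T := fun i => ρ (B i)) hT hc (U := ⊤) (fun _ _ _ _ => trivial) 10 le_rfl
    rw [finrank_top, e10] at h
    have h3 := sum_cnt (n ρ) false 1024 le_rfl
    rw [c1, c2, c3, c4, one_mul] at h3
    rw [← h, ← h3]
    refine Finset.sum_congr rfl fun c hcr => ?_
    rw [if_pos (by simp), n_rt ρ (Finset.mem_range.1 hcr)]
    rfl
  · have hU : ∀ i < 10, ∀ v ∈ LinearMap.ker (ρ (B 0) + 1), ρ (B i) v ∈ LinearMap.ker (ρ (B 0) + 1) := by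
      intro i hi v hv
      rw [LinearMap.mem_ker, LinearMap.add_apply, Module.End.one_apply] at hv ⊢
      have e1 : ρ (B 0) (ρ (B i) v) = ρ (B i) (ρ (B 0) v) :=
        congrArg (fun f : End K V => f v) (hc 0 (by norm_num) i hi)
      rw [e1, ← map_add, hv, map_zero]
    have h := Wt.sum_W h2 (T := fun i => ρ (B i)) hT hc (U := LinearMap.ker (ρ (B 0) + 1)) hU 10 le_rfl
    rw [e10] at h
    have h3 := sum_cnt (n ρ) true 1024 le_rfl
    rw [c5, c6, c7, c8, zero_mul, zero_add] at h3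
    rw [← h, ← h3]
    refine Finset.sum_congr rfl fun c hcr => ?_
    rw [n_rt ρ (Finset.mem_range.1 hcr)]
    unfold n
    cases hb : c.testBit 0
    · rw [if_neg (by simp)]
      rw [Submodule.finrank_eq_zero, eq_bot_iff]
      intro v hv
      rw [mem_W] at hv
      have e1 := hv.2 0 (by norm_num)
      have e2 := hv.1
      rw [LinearMap.mem_ker, LinearMap.add_apply, Module.End.one_apply] at e2
      unfold s at e1
      rw [hb, if_neg (by simp), one_smul] at e1
      have e3 : ρ (B 0) v = v := e1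
      rw [e3, ← two_smul K] at e2
      exact (smul_eq_zero.1 e2).resolve_left h2
    · rw [if_pos (by simp)]
      have e : W (fun i => ρ (B i)) (LinearMap.ker (ρ (B 0) + 1)) c 10 = W (fun i => ρ (B i)) ⊤ c 10 := by
        ext v
        rw [mem_W, mem_W]
        constructor
        · exact fun h => ⟨trivial, h.2⟩
        · intro h
          refine ⟨?_, h.2⟩
          have e1 := h.2 0 (by norm_num)
          unfold s at e1
          rw [hb, if_pos rfl] at e1
          have e3 : ρ (B 0) v = (-1 : K) • v := e1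
          rw [LinearMap.mem_ker, LinearMap.add_apply, Module.End.one_apply, e3, neg_smul, one_smul, neg_add_cancel]
      rw [e]

/-- **the `(-1)`-eigenspace of a transposition in degree less than 154** -/
theorem dim_eq (h2 : (2 : K) ≠ 0) (ρ : Spor.Fi22 →* End K V) (h : finrank K V < 154) (h1 : ρ (B 0) ≠ 1) :
    finrank K ↥(LinearMap.ker (ρ (B 0) + 1)) = 56 := by
  obtain ⟨e1, e2⟩ := dims h2 ρ
  have h3 : finrank K ↥(LinearMap.ker (ρ (B 0) + 1)) ≠ 0 := by
    intro h0
    apply h1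
    rw [Submodule.finrank_eq_zero, LinearMap.ker_eq_bot'] at h0
    ext v
    rw [Module.End.one_apply, ← sub_eq_zero]
    apply h0
    rw [LinearMap.add_apply, Module.End.one_apply, map_sub]
    have e : ρ (B 0) (ρ (B 0) v) = v := by
      rw [← Module.End.mul_apply, ← map_mul, B_sq (by norm_num), map_one, Module.End.one_apply]
    rw [e]
    abel
  have h4 : n ρ 1 = 0 := by omega
  have h5 : n ρ 14 = 0 := by omega
  have h6 : n ρ 127 ≤ 1 := by omega
  rw [h4, h5] at e2
  have h7 : n ρ 127 = 0 ∨ n ρ 127 = 1 := by omega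
  rcases h7 with h7 | h7
  · rw [h7] at e2
    exact absurd e2 h3
  · rw [h7] at e2
    exact e2

end Cfsg.Agent.H14.EPX.FiRep
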